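import Mathlib

/-!
# Transfer of pointwise flatness along a "localization of a quotient" (helper56)

`P → S` a ring map such that `S` is a localization at (the image of) `T ⊆ P` of a quotient of
`P`, and `e : N → M` a `P`-linear map which is a localization at `T`.  Then `M_q ≅ N_{q ∩ P}`
for every prime `q` of `S`, and a prime of `P` which misses `T` either comes from `S` or is
outside the support of `N`.
-/

set_option autoImplicit false
set_option linter.style.haveILetI false

namespace Groth.Agent.H56.ColimFlatAt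

universe u

section Abs

variable {C P S N M : Type u} [CommRing C] [CommRing P] [CommRing S] [Algebra C P] [Algebra C S]
  [Algebra P S] [IsScalarTower C P S]
  [AddCommGroup N] [Module C N] [Module P N] [IsScalarTower C P N]
  [AddCommGroup M] [Module C M] [Module S M] [IsScalarTower C S M] [Module P M]
  [IsScalarTower P S M] [IsScalarTower C P M]
  (T : Submonoid P) (e : N →ₗ[P] M) [IsLocalizedModule T e]

include T in
/-- the composite `N → M → M_q` is a localization at `q ∩ P` -/
theorem isLocalizedModule_comp_mk (h1 : ∀ t ∈ T, IsUnit (algebraMap P S t))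
    (h2 : ∀ s : S, ∃ p : P, ∃ t ∈ T, s * algebraMap P S t = algebraMap P S p)
    (q : Ideal S) [q.IsPrime] :
    IsLocalizedModule (q.comap (algebraMap P S)).primeCompl
      (((LocalizedModule.mkLinearMap q.primeCompl M).restrictScalars P) ∘ₗ e) := by
  have hTq : ∀ t ∈ T, algebraMap P S t ∉ q := fun t ht hmem =>
    (Ideal.IsPrime.ne_top inferInstance) (Ideal.eq_top_of_isUnit_mem _ hmem (h1 t ht))
  have hsm : ∀ (p : P) (y : LocalizedModule q.primeCompl M), p • y = algebraMap P S p • y :=
    fun p y => (algebraMap_smul S p y).symm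
  have hsmM : ∀ (p : P) (y : M), p • y = algebraMap P S p • y :=
    fun p y => (algebraMap_smul S p y).symm
  refine ⟨?_, ?_, ?_⟩
  · rintro ⟨p, hp⟩
    have hp' : algebraMap P S p ∈ q.primeCompl := hp
    have hunit := IsLocalizedModule.map_units (LocalizedModule.mkLinearMap q.primeCompl M)
      ⟨algebraMap P S p, hp'⟩
    rw [Module.End.isUnit_iff] at hunit ⊢
    have : ⇑(algebraMap P (Module.End P (LocalizedModule q.primeCompl M)) p) =
        ⇑(algebraMap S (Module.End S (LocalizedModule q.primeCompl M)) (algebraMap P S p)) := by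
      funext y
      simp only [Module.algebraMap_end_apply]
      exact hsm p y
    change Function.Bijective ⇑(algebraMap P (Module.End P (LocalizedModule q.primeCompl M)) p)
    rw [this]
    exact hunit
  · intro y
    induction y using LocalizedModule.induction_on with
    | h m s =>
      obtain ⟨⟨n, t⟩, hnt⟩ := IsLocalizedModule.surj T e m
      obtain ⟨p, t', ht', hpt'⟩ := h2 (s : S)
      have hpq : algebraMap P S p ∉ q := by
        rw [← hpt']
        intro hmem
        rcases Ideal.IsPrime.mem_or_mem inferInstance hmem with h | h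
        · exact s.2 h
        · exact hTq t' ht' h
      have hptq : p * (t : P) ∈ (q.comap (algebraMap P S)).primeCompl := by
        intro hmem
        have hmem' : algebraMap P S (p * (t : P)) ∈ q := hmem
        rw [map_mul] at hmem'
        rcases Ideal.IsPrime.mem_or_mem inferInstance hmem' with h | h
        · exact hpq h
        · exact hTq t t.2 h
      refine ⟨⟨t' • n, ⟨p * t, hptq⟩⟩, ?_⟩
      change (p * (t : P)) • LocalizedModule.mk m s = LocalizedModule.mk (e (t' • n)) 1
      rw [LocalizedModule.smul'_mk, LocalizedModule.mk_eq]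
      refine ⟨1, ?_⟩
      rw [one_smul, one_smul, one_smul]
      have h3 : (t : P) • m = e n := hnt
      rw [map_smul, ← h3, mul_smul, hsmM p, hsmM t', Submonoid.smul_def, ← mul_smul, hpt']
  · intro n₁ n₂ h
    have h' : LocalizedModule.mk (e n₁) (1 : q.primeCompl) = LocalizedModule.mk (e n₂) 1 := h
    rw [LocalizedModule.mk_eq] at h'
    obtain ⟨s, hs⟩ := h'
    rw [one_smul, one_smul] at hs
    obtain ⟨p, t', ht', hpt'⟩ := h2 (s : S)
    have hpq : algebraMap P S p ∉ q := by
      rw [← hpt']
      intro hmem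
      rcases Ideal.IsPrime.mem_or_mem inferInstance hmem with h | h
      · exact s.2 h
      · exact hTq t' ht' h
    have h5 : e (p • n₁) = e (p • n₂) := by
      rw [map_smul, map_smul, hsmM, hsmM, ← hpt', mul_comm, mul_smul, mul_smul]
      congr 1
    obtain ⟨t, ht⟩ := IsLocalizedModule.exists_of_eq (S := T) h5
    have hptq : (t : P) * p ∈ (q.comap (algebraMap P S)).primeCompl := by
      intro hmem
      have hmem' : algebraMap P S ((t : P) * p) ∈ q := hmem
      rw [map_mul] at hmem'
      rcases Ideal.IsPrime.mem_or_mem inferInstance hmem' with h | h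
      · exact hTq t t.2 h
      · exact hpq h
    refine ⟨⟨t * p, hptq⟩, ?_⟩
    change ((t : P) * p) • n₁ = ((t : P) * p) • n₂
    rw [mul_smul, mul_smul]
    exact ht

include T e in
/-- **transfer of pointwise flatness** -/
theorem flat_localizedModule_iff_of_isLocalizedModule
    (h1 : ∀ t ∈ T, IsUnit (algebraMap P S t))
    (h2 : ∀ s : S, ∃ p : P, ∃ t ∈ T, s * algebraMap P S t = algebraMap P S p)
    (q : Ideal S) [q.IsPrime] :
    Module.Flat C (LocalizedModule q.primeCompl M) ↔
      Module.Flat C (LocalizedModule (q.comap (algebraMap P S)).primeCompl N) := by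
  haveI := isLocalizedModule_comp_mk T e h1 h2 q
  exact Module.Flat.equiv_iff ((IsLocalizedModule.iso (q.comap (algebraMap P S)).primeCompl
    (((LocalizedModule.mkLinearMap q.primeCompl M).restrictScalars P) ∘ₗ e)).restrictScalars C).symm

include T e in
/-- a prime of `P` missing `T` comes from `S`, or is outside the support of `N` -/
theorem exists_comap_eq_or_subsingleton
    (h2 : ∀ s : S, ∃ p : P, ∃ t ∈ T, s * algebraMap P S t = algebraMap P S p)
    (q' : Ideal P) [q'.IsPrime] (hq' : ∀ t ∈ T, t ∉ q') :
    (∃ q : Ideal S, q.IsPrime ∧ q.comap (algebraMap P S) = q') ∨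
      Subsingleton (LocalizedModule q'.primeCompl N) := by
  have hsmM : ∀ (p : P) (y : M), p • y = algebraMap P S p • y :=
    fun p y => (algebraMap_smul S p y).symm
  by_cases hker : RingHom.ker (algebraMap P S) ≤ q'
  · left
    rw [← Ideal.comap_map_eq_self_iff_of_isPrime]
    refine le_antisymm ?_ Ideal.le_comap_map
    -- elements of the extension
    have key : ∀ s ∈ q'.map (algebraMap P S), ∃ p ∈ q', ∃ t ∈ T,
        s * algebraMap P S t = algebraMap P S p := by
      intro s hs
      refine Submodule.span_induction (p := fun s _ => ∃ p ∈ q', ∃ t ∈ T,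
        s * algebraMap P S t = algebraMap P S p) ?_ ?_ ?_ ?_ hs
      · rintro _ ⟨p, hp, rfl⟩
        exact ⟨p, hp, 1, T.one_mem, by rw [map_one, mul_one]⟩
      · exact ⟨0, q'.zero_mem, 1, T.one_mem, by rw [map_one, mul_one, map_zero]⟩
      · rintro s₁ s₂ _ _ ⟨p₁, hp₁, t₁, ht₁, h₁⟩ ⟨p₂, hp₂, t₂, ht₂, h₂⟩
        refine ⟨p₁ * t₂ + p₂ * t₁, q'.add_mem (q'.mul_mem_right _ hp₁) (q'.mul_mem_right _ hp₂),
          t₁ * t₂, T.mul_mem ht₁ ht₂, ?_⟩
        rw [map_add, map_mul, map_mul, map_mul, ← h₁, ← h₂]
        ring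
      · rintro c s _ ⟨p, hp, t, ht, h⟩
        obtain ⟨p₀, t₀, ht₀, h₀⟩ := h2 c
        refine ⟨p₀ * p, q'.mul_mem_left _ hp, t₀ * t, T.mul_mem ht₀ ht, ?_⟩
        rw [map_mul, map_mul, ← h, ← h₀, smul_eq_mul]
        ring
    intro x hx
    obtain ⟨p, hp, t, ht, h⟩ := key _ hx
    have hmem : x * t - p ∈ RingHom.ker (algebraMap P S) := by
      rw [RingHom.mem_ker, map_sub, map_mul, h, sub_self]
    have hxt : x * t ∈ q' := by
      have := q'.add_mem (hker hmem) hp
      rwa [sub_add_cancel] at this
    rcases Ideal.IsPrime.mem_or_mem inferInstance hxt with h | h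
    · exact h
    · exact absurd h (hq' t ht)
  · right
    obtain ⟨p, hpker, hpq⟩ := SetLike.not_le_iff_exists.mp hker
    rw [LocalizedModule.subsingleton_iff]
    intro n
    have h0 : e (p • n) = e 0 := by
      rw [map_smul, hsmM, (RingHom.mem_ker).mp hpker, zero_smul, map_zero]
    obtain ⟨t, ht⟩ := IsLocalizedModule.exists_of_eq (S := T) h0
    refine ⟨t * p, ?_, ?_⟩
    · intro hmem
      rcases Ideal.IsPrime.mem_or_mem inferInstance hmem with h | h
      · exact hq' t t.2 h
      · exact hpq h
    · rw [mul_smul]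
      rw [smul_zero] at ht
      exact ht

end Abs

section Wrap

variable {C P S N M : Type u} [CommRing C] [CommRing P] [CommRing S] [Algebra C P] [Algebra C S]
  [AddCommGroup N] [Module C N] [Module P N] [IsScalarTower C P N]
  [AddCommGroup M] [Module C M] [Module S M] [IsScalarTower C S M]

/-- `S` is a localization at `T` of a quotient of `P`, and `e : N → M` is a semilinear map which
is a localization at `T`. -/
structure IsBridge (φ : P →ₐ[C] S) (T : Submonoid P) (e : N →+ M) : Prop where
  semilinear : ∀ (p : P) (x : N), e (p • x) = φ p • e x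
  isUnit : ∀ t ∈ T, IsUnit (φ t)
  surj_ring : ∀ s : S, ∃ p : P, ∃ t ∈ T, s * φ t = φ p
  surj_mod : ∀ m : M, ∃ n : N, ∃ t ∈ T, φ t • m = e n
  ker_mod : ∀ n : N, e n = 0 → ∃ t ∈ T, t • n = 0

variable {φ : P →ₐ[C] S} {T : Submonoid P} {e : N →+ M}

theorem IsBridge.notMem_comap (h : IsBridge φ T e) (q : Ideal S) [q.IsPrime] :
    ∀ t ∈ T, t ∉ q.comap φ := fun t ht hmem =>
  (Ideal.IsPrime.ne_top (inferInstance : q.IsPrime))
    (Ideal.eq_top_of_isUnit_mem q (Ideal.mem_comap.mp hmem) (h.isUnit t ht))

/-- auxiliary: the instances and the localization property -/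
theorem IsBridge.aux (h : IsBridge φ T e) :
    letI : Algebra P S := φ.toRingHom.toAlgebra
    letI : Module P M := Module.compHom M φ.toRingHom
    ∃ (_ : IsScalarTower C P S) (_ : IsScalarTower P S M) (_ : IsScalarTower C P M)
      (e' : N →ₗ[P] M), IsLocalizedModule T e' ∧ ∀ x, e' x = e x := by
  letI : Algebra P S := φ.toRingHom.toAlgebra
  letI : Module P M := Module.compHom M φ.toRingHom
  have h1 : IsScalarTower C P S := IsScalarTower.of_algebraMap_eq (fun c => (φ.commutes c).symm)
  have h2 : IsScalarTower P S M := IsScalarTower.of_algebraMap_smul (fun p m => rfl)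
  have h3 : IsScalarTower C P M := ⟨fun c p m => by
    change φ (c • p) • m = c • (φ p • m)
    rw [map_smul, smul_assoc]⟩
  let e' : N →ₗ[P] M := { toFun := e, map_add' := e.map_add, map_smul' := h.semilinear }
  refine ⟨h1, h2, h3, e', ⟨?_, ?_, ?_⟩, fun x => rfl⟩
  · rintro ⟨t, ht⟩
    rw [Module.End.isUnit_iff]
    have hu := h.isUnit t ht
    constructor
    · intro x y hxy
      have hxy' : φ t • x = φ t • y := hxy
      exact (hu.smul_left_cancel).mp hxy'
    · intro y
      obtain ⟨u, hu'⟩ := hu
      refine ⟨(↑u⁻¹ : S) • y, ?_⟩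
      change φ t • ((↑u⁻¹ : S) • y) = y
      rw [← hu', ← mul_smul, Units.mul_inv, one_smul]
  · intro m
    obtain ⟨n, t, ht, hnt⟩ := h.surj_mod m
    exact ⟨⟨n, ⟨t, ht⟩⟩, hnt⟩
  · intro n₁ n₂ h12
    have h12' : e n₁ = e n₂ := h12
    have h0 : e (n₁ - n₂) = 0 := by rw [map_sub, h12', sub_self]
    obtain ⟨t, ht, htn⟩ := h.ker_mod _ h0
    refine ⟨⟨t, ht⟩, ?_⟩
    change t • n₁ = t • n₂
    rw [smul_sub, sub_eq_zero] at htn
    exact htn

/-- **transfer of pointwise flatness along a bridge** -/
theorem IsBridge.flat_iff (h : IsBridge φ T e) (q : Ideal S) [q.IsPrime] :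
    Module.Flat C (LocalizedModule q.primeCompl M) ↔
      Module.Flat C (LocalizedModule (q.comap φ).primeCompl N) := by
  letI : Algebra P S := φ.toRingHom.toAlgebra
  letI : Module P M := Module.compHom M φ.toRingHom
  obtain ⟨h1, h2, h3, e', he', -⟩ := h.aux
  have := flat_localizedModule_iff_of_isLocalizedModule (C := C) T e' h.isUnit h.surj_ring q
  exact this

/-- a prime of `P` missing `T` comes from `S`, or is outside the support of `N` -/
theorem IsBridge.exists_comap_eq_or_subsingleton (h : IsBridge φ T e)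
    (q' : Ideal P) [q'.IsPrime] (hq' : ∀ t ∈ T, t ∉ q') :
    (∃ q : Ideal S, q.IsPrime ∧ q.comap φ = q') ∨
      Subsingleton (LocalizedModule q'.primeCompl N) := by
  letI : Algebra P S := φ.toRingHom.toAlgebra
  letI : Module P M := Module.compHom M φ.toRingHom
  obtain ⟨h1, h2, h3, e', he', -⟩ := h.aux
  have := Groth.Agent.H56.ColimFlatAt.exists_comap_eq_or_subsingleton T e' h.surj_ring
    q' hq'
  exact this

end Wrap

end Groth.Agent.H56.ColimFlatAt
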