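import Mathlib
import Groth.Agent.H1.FlatLocusColim
import Groth.Agent.H70.FlatAtBC.Basic
import Groth.Agent.H56.ColimFlatAt.Bridge

/-!
# Base change of a bridge along an algebra `R → C`, for arbitrary pushout models (helper56)
-/

set_option autoImplicit false
set_option linter.style.haveILetI false

namespace Groth.Agent.H56.ColimFlatAt

universe u

open Groth.Agent.H1.FlatLocus TensorProduct

attribute [local instance] MvPolynomial.algebraMvPolynomial

section CLevel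

variable {R : Type u} [CommRing R] {Z : Type u} [CommRing Z] [Algebra Z R] (𝓜 : Model Z)
  {S M : Type u} [CommRing S] [Algebra R S] [AddCommGroup M] [Module S M] [Module R M]
  [IsScalarTower R S M]
  {ψ : 𝓜.P R →ₐ[R] S} {T : Submonoid (𝓜.P R)} {ε : 𝓜.Mod R →+ M}
  (C : Type u) [CommRing C] [Algebra R C] [Algebra Z C] [IsScalarTower Z R C]
  {SC MC : Type u} [CommRing SC] [Algebra S SC] [Algebra C SC] [Algebra R SC] [IsScalarTower R S SC]
  [IsScalarTower R C SC] [Algebra.IsPushout R S C SC]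
  [AddCommGroup MC] [Module SC MC] [Module C MC] [IsScalarTower C SC MC] [Module S MC]
  [IsScalarTower S SC MC]

theorem baseChangeEquiv_tmul (c : C) (x : 𝓜.Mod R) :
    𝓜.baseChangeEquiv R C (c ⊗ₜ x) = c • 𝓜.mapMod R C x := by
  unfold Model.baseChangeEquiv
  rw [LinearEquiv.trans_apply, Algebra.IsPushout.cancelBaseChange_symm_tmul,
    LinearEquiv.restrictScalars_apply, IsBaseChange.equiv_tmul, algebraMap_smul]

/-- the induced map on polynomial rings -/
noncomputable def psiC (ψ : 𝓜.P R →ₐ[R] S) : 𝓜.P C →ₐ[C] SC :=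
  MvPolynomial.aeval (fun k => algebraMap S SC (ψ (MvPolynomial.X k)))

omit [Algebra Z C] [IsScalarTower Z R C] [Algebra.IsPushout R S C SC] in
theorem psiC_algebraMap (p : 𝓜.P R) :
    psiC 𝓜 C (SC := SC) ψ (algebraMap (𝓜.P R) (𝓜.P C) p) = algebraMap S SC (ψ p) := by
  rw [MvPolynomial.algebraMap_def]
  induction p using MvPolynomial.induction_on with
  | C r =>
    rw [MvPolynomial.map_C, psiC, MvPolynomial.aeval_C, ← IsScalarTower.algebraMap_apply,
      ← MvPolynomial.algebraMap_eq, AlgHom.commutes, ← IsScalarTower.algebraMap_apply]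
  | add p q hp hq => rw [map_add, map_add, map_add, map_add, hp, hq]
  | mul_X p k hp =>
    rw [map_mul, map_mul, map_mul, map_mul, hp, MvPolynomial.map_X, psiC, MvPolynomial.aeval_X]

include 𝓜 in
theorem exists_bridge_of_pushout (hb : IsBridge ψ T ε) (fi : M →ₗ[S] MC)
    (hfi : IsBaseChange SC fi) :
    ∃ (εC : 𝓜.Mod C →+ MC),
      IsBridge (psiC 𝓜 C (SC := SC) ψ) (T.map (algebraMap (𝓜.P R) (𝓜.P C))) εC := by
  classical
  set ψC : 𝓜.P C →ₐ[C] SC := psiC 𝓜 C (SC := SC) ψ with hψC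
  have hcompat : ∀ p : 𝓜.P R, ψC (algebraMap (𝓜.P R) (𝓜.P C) p) = algebraMap S SC (ψ p) :=
    psiC_algebraMap 𝓜 C
  -- `R`-module structure on `MC`
  letI modR : Module R MC := Module.compHom MC (algebraMap R SC)
  haveI : IsScalarTower R SC MC := IsScalarTower.of_algebraMap_smul fun _ _ => rfl
  haveI : IsScalarTower R C MC := IsScalarTower.of_algebraMap_smul fun r m => by
    rw [← algebraMap_smul SC (algebraMap R C r) m, ← IsScalarTower.algebraMap_apply]
    rfl
  haveI : IsScalarTower R S MC := IsScalarTower.of_algebraMap_smul fun r m => by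
    rw [← algebraMap_smul SC (algebraMap R S r) m, ← IsScalarTower.algebraMap_apply]
    rfl
  -- the `R`-level instances
  letI algPS : Algebra (𝓜.P R) S := ψ.toRingHom.toAlgebra
  letI modPM : Module (𝓜.P R) M := Module.compHom M ψ.toRingHom
  obtain ⟨h1, h2, h3, ε', hε'loc, hε'⟩ := hb.aux
  -- module structures on `MC`
  letI modPC : Module (𝓜.P C) MC := Module.compHom MC ψC.toRingHom
  letI modPR : Module (𝓜.P R) MC := Module.compHom MC ((algebraMap S SC).comp ψ.toRingHom)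
  have hsmPC : ∀ (p : 𝓜.P C) (m : MC), p • m = ψC p • m := fun _ _ => rfl
  have hsmPR : ∀ (p : 𝓜.P R) (m : MC), p • m = algebraMap S SC (ψ p) • m := fun _ _ => rfl
  haveI : IsScalarTower (𝓜.P R) (𝓜.P C) MC := IsScalarTower.of_algebraMap_smul fun p m => by
    rw [hsmPC, hsmPR, hcompat]
  have hCsm : ∀ (c : C) (m : MC), (algebraMap C (𝓜.P C) c) • m = c • m := fun c m => by
    rw [hsmPC, AlgHom.commutes, algebraMap_smul]
  -- the lifted map
  let g : 𝓜.Mod R →ₗ[𝓜.P R] MC :=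
    { toFun := fun x => fi (ε x)
      map_add' := fun x y => by rw [map_add, map_add]
      map_smul' := fun p x => by
        rw [hb.semilinear, map_smul, RingHom.id_apply, hsmPR, algebraMap_smul] }
  let εC' : 𝓜.Mod C →ₗ[𝓜.P C] MC := (𝓜.isBaseChange_mapMod R C).lift g
  have hεC'map : ∀ x, εC' (𝓜.mapMod R C x) = fi (ε x) := fun x =>
    (𝓜.isBaseChange_mapMod R C).lift_eq g x
  -- the two identifications
  let Θ : 𝓜.Mod R ⊗[R] C ≃+ 𝓜.Mod C :=
    (TensorProduct.comm R (𝓜.Mod R) C).toAddEquiv.trans (𝓜.baseChangeEquiv R C).toAddEquiv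
  have hΘ : ∀ (x : 𝓜.Mod R) (c : C), Θ (x ⊗ₜ c) = c • 𝓜.mapMod R C x := fun x c =>
    baseChangeEquiv_tmul 𝓜 C c x
  have hR : IsBaseChange C (fi.restrictScalars R) :=
    Groth.Agent.H70.FlatAtBC.isBaseChange_restrictScalars (R := R) fi hfi
  let Ξ : M ⊗[R] C ≃+ MC :=
    (TensorProduct.comm R M C).toAddEquiv.trans hR.equiv.toAddEquiv
  have hΞ : ∀ (m : M) (c : C), Ξ (m ⊗ₜ c) = c • fi m := fun m c =>
    hR.equiv_tmul c m
  let rT : 𝓜.Mod R ⊗[R] C →ₗ[𝓜.P R] M ⊗[R] C := AlgebraTensorModule.rTensor R C ε'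
  haveI hrT : IsLocalizedModule T rT := inferInstance
  have hrT_tmul : ∀ (x : 𝓜.Mod R) (c : C), rT (x ⊗ₜ c) = ε x ⊗ₜ c := fun x c => by
    change ε' x ⊗ₜ c = _
    rw [hε']
  -- key identities
  have hΘsm : ∀ (t : 𝓜.P R) (y : 𝓜.Mod R ⊗[R] C),
      Θ (t • y) = algebraMap (𝓜.P R) (𝓜.P C) t • Θ y := by
    intro t y
    induction y with
    | zero => rw [smul_zero, map_zero, smul_zero]
    | add a b ha hb => rw [smul_add, map_add, map_add, smul_add, ha, hb]
    | tmul x c =>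
      rw [TensorProduct.smul_tmul', hΘ, hΘ, map_smul, smul_comm, algebraMap_smul]
  have hΞsm : ∀ (p : 𝓜.P R) (z : M ⊗[R] C),
      Ξ (p • z) = ψC (algebraMap (𝓜.P R) (𝓜.P C) p) • Ξ z := by
    intro p z
    induction z with
    | zero => rw [smul_zero, map_zero, smul_zero]
    | add a b ha hb => rw [smul_add, map_add, map_add, smul_add, ha, hb]
    | tmul m c =>
      rw [TensorProduct.smul_tmul', hΞ, hΞ, hcompat]
      have : p • m = ψ p • m := rfl
      rw [this, map_smul, ← algebraMap_smul SC (ψ p) (fi m), smul_comm]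
  have hcomm : ∀ y : 𝓜.Mod R ⊗[R] C, εC' (Θ y) = Ξ (rT y) := by
    intro y
    induction y with
    | zero => rw [map_zero, map_zero, map_zero, map_zero]
    | add a b ha hb => rw [map_add, map_add, map_add, map_add, ha, hb]
    | tmul x c =>
      rw [hΘ, hrT_tmul, hΞ, ← algebraMap_smul (𝓜.P C) c (𝓜.mapMod R C x), map_smul, hCsm,
        hεC'map]
  refine ⟨εC'.toAddMonoidHom, ⟨?_, ?_, ?_, ?_, ?_⟩⟩
  · intro p x
    exact εC'.map_smul p x
  · rintro _ ⟨t, ht, rfl⟩
    change IsUnit (ψC (algebraMap (𝓜.P R) (𝓜.P C) t))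
    rw [hcompat]
    exact (hb.isUnit t ht).map _
  · intro s
    haveI hsymm : Algebra.IsPushout R C S SC := Algebra.IsPushout.symm inferInstance
    have hpush : IsBaseChange C (IsScalarTower.toAlgHom R S SC).toLinearMap :=
      Algebra.IsPushout.out
    refine hpush.inductionOn s (fun s => ∃ p : 𝓜.P C,
      ∃ t ∈ T.map (algebraMap (𝓜.P R) (𝓜.P C)), s * ψC t = ψC p) ?_ ?_ ?_ ?_
    · exact ⟨0, 1, Submonoid.one_mem _, by rw [zero_mul, map_zero]⟩
    · intro s₁
      obtain ⟨p, t, ht, hpt⟩ := hb.surj_ring s₁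
      refine ⟨algebraMap (𝓜.P R) (𝓜.P C) p, algebraMap (𝓜.P R) (𝓜.P C) t,
        Submonoid.mem_map_of_mem _ ht, ?_⟩
      rw [hcompat, hcompat, ← hpt, map_mul]
      rfl
    · rintro c s ⟨p, t, ht, hpt⟩
      refine ⟨algebraMap C (𝓜.P C) c * p, t, ht, ?_⟩
      rw [map_mul, AlgHom.commutes, ← hpt, Algebra.smul_def, mul_assoc]
    · rintro s₁ s₂ ⟨p₁, t₁, ht₁, h₁⟩ ⟨p₂, t₂, ht₂, h₂⟩
      refine ⟨p₁ * t₂ + p₂ * t₁, t₁ * t₂, Submonoid.mul_mem _ ht₁ ht₂, ?_⟩
      rw [map_add, map_mul, map_mul, map_mul, ← h₁, ← h₂]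
      ring
  · intro m
    obtain ⟨z, rfl⟩ := Ξ.surjective m
    obtain ⟨⟨y, t⟩, hyt⟩ := IsLocalizedModule.surj T rT z
    refine ⟨Θ y, algebraMap (𝓜.P R) (𝓜.P C) (t : 𝓜.P R), Submonoid.mem_map_of_mem _ t.2, ?_⟩
    change _ = εC' (Θ y)
    rw [hcomm, ← hΞsm]
    congr 1
  · intro n hn
    obtain ⟨y, rfl⟩ := Θ.surjective n
    have hn' : εC' (Θ y) = 0 := hn
    rw [hcomm] at hn'
    have h0 : rT y = rT 0 := by
      rw [map_zero]
      exact (map_eq_zero_iff Ξ Ξ.injective).mp hn'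
    obtain ⟨t, ht⟩ := IsLocalizedModule.exists_of_eq (S := T) h0
    refine ⟨algebraMap (𝓜.P R) (𝓜.P C) (t : 𝓜.P R), Submonoid.mem_map_of_mem _ t.2, ?_⟩
    rw [← hΘsm]
    have : (t : 𝓜.P R) • y = 0 := by
      rw [smul_zero] at ht
      exact ht
    rw [this, map_zero]

end CLevel

end Groth.Agent.H56.ColimFlatAt
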