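import Mathlib
import Groth.Prelude.Def_FlatCA

/-!
# Directed colimits of rings in the elementwise sense: polynomial rings and ideals (helper56)
-/

set_option autoImplicit false
set_option linter.style.haveILetI false

namespace Groth.Agent.H56.ColimFlatAt

universe u

attribute [local instance] MvPolynomial.algebraMvPolynomial

section Ideal

variable {ι : Type u} [Preorder ι] (T : ι → Type u) [∀ i, CommRing (T i)]
  (t : ∀ i j, i ≤ j → T i →+* T j) (T' : Type u) [CommRing T'] [∀ i, Algebra (T i) T']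

/-- membership in the colimit of a compatible system of ideals descends to a stage -/
theorem exists_stage_mem_of_mem_iSup_map (hcolim : FlatCA.IsDirectedColimitRing T t T')
    (𝔠 : ∀ i, Ideal (T i)) (h𝔠 : ∀ i j (h : i ≤ j), (𝔠 i).map (t i j h) ≤ 𝔠 j)
    (i : ι) (x : T i) (hx : algebraMap (T i) T' x ∈ ⨆ k, (𝔠 k).map (algebraMap (T k) T')) :
    ∃ (j : ι) (h : i ≤ j), t i j h x ∈ 𝔠 j := by
  obtain ⟨hdir, hne, hid, hcomp, hcompat, hsurj, hinj⟩ := hcolim
  have hmem : ∀ {k m : ι} (h : k ≤ m) {y : T k}, y ∈ 𝔠 k → t k m h y ∈ 𝔠 m := fun h y hy =>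
    h𝔠 _ _ h (Ideal.mem_map_of_mem _ hy)
  have hcompat' : ∀ {k m : ι} (h : k ≤ m) (y : T k),
      algebraMap (T m) T' (t k m h y) = algebraMap (T k) T' y := fun h y =>
    RingHom.congr_fun (hcompat _ _ h) y
  -- the ideal of elements coming from some `𝔠 k`
  let J : Ideal T' :=
    { carrier := {y | ∃ k, ∃ yk ∈ 𝔠 k, algebraMap (T k) T' yk = y}
      zero_mem' := by
        obtain ⟨k⟩ := hne
        exact ⟨k, 0, zero_mem _, map_zero _⟩
      add_mem' := by
        rintro _ _ ⟨k, yk, hyk, rfl⟩ ⟨l, zl, hzl, rfl⟩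
        obtain ⟨m, hkm, hlm⟩ := hdir.directed k l
        refine ⟨m, t k m hkm yk + t l m hlm zl, add_mem (hmem hkm hyk) (hmem hlm hzl), ?_⟩
        rw [map_add, hcompat', hcompat']
      smul_mem' := by
        rintro c _ ⟨k, yk, hyk, rfl⟩
        obtain ⟨l, cl, rfl⟩ := hsurj c
        obtain ⟨m, hlm, hkm⟩ := hdir.directed l k
        refine ⟨m, t l m hlm cl * t k m hkm yk, Ideal.mul_mem_left _ _ (hmem hkm hyk), ?_⟩
        rw [map_mul, hcompat', hcompat', smul_eq_mul] }
  have hle : (⨆ k, (𝔠 k).map (algebraMap (T k) T')) ≤ J := by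
    refine iSup_le fun k => ?_
    rw [Ideal.map_le_iff_le_comap]
    intro y hy
    exact ⟨k, y, hy, rfl⟩
  obtain ⟨k, yk, hyk, hyx⟩ := hle hx
  obtain ⟨m, him, hkm⟩ := hdir.directed i k
  have h0 : algebraMap (T m) T' (t i m him x - t k m hkm yk) = 0 := by
    rw [map_sub, hcompat', hcompat', hyx, sub_self]
  obtain ⟨n, hmn, hn⟩ := hinj m _ h0
  refine ⟨n, him.trans hmn, ?_⟩
  have h1 : t i n (him.trans hmn) x = t k n (hkm.trans hmn) yk := by
    have e1 : t i n (him.trans hmn) x = t m n hmn (t i m him x) :=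
      (RingHom.congr_fun (hcomp i m n him hmn) x).symm
    have e2 : t k n (hkm.trans hmn) yk = t m n hmn (t k m hkm yk) :=
      (RingHom.congr_fun (hcomp k m n hkm hmn) yk).symm
    rw [e1, e2, ← sub_eq_zero, ← map_sub, hn]
  rw [h1]
  exact hmem _ hyk

end Ideal

section Poly

variable {ι : Type u} [Preorder ι] (G : ι → Type u) [∀ i, CommRing (G i)]
  (g : ∀ i j, i ≤ j → G i →+* G j) (A : Type u) [CommRing A] [∀ i, Algebra (G i) A]

/-- polynomial rings over a directed colimit -/
theorem isDirectedColimitRing_mvPolynomial (hcolim : FlatCA.IsDirectedColimitRing G g A) (r : ℕ) :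
    FlatCA.IsDirectedColimitRing (fun i => MvPolynomial (Fin r) (G i))
      (fun i j h => MvPolynomial.map (g i j h)) (MvPolynomial (Fin r) A) := by
  classical
  obtain ⟨hdir, hne, hid, hcomp, hcompat, hsurj, hinj⟩ := hcolim
  haveI := hdir
  haveI := hne
  refine ⟨hdir, hne, ?_, ?_, ?_, ?_, ?_⟩
  · intro i
    change MvPolynomial.map (g i i le_rfl) = RingHom.id (MvPolynomial (Fin r) (G i))
    rw [hid i]
    exact RingHom.ext fun p => MvPolynomial.map_id p
  · intro i j k hij hjk
    refine RingHom.ext fun p => ?_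
    rw [RingHom.comp_apply, MvPolynomial.map_map, hcomp]
  · intro i j h
    refine RingHom.ext fun p => ?_
    rw [RingHom.comp_apply, MvPolynomial.algebraMap_def, MvPolynomial.algebraMap_def,
      MvPolynomial.map_map, hcompat]
  · intro p
    have h1 : ∀ a : A, ∃ i, ∃ x : G i, algebraMap (G i) A x = a := hsurj
    choose i₀ x₀ hx₀ using h1
    obtain ⟨j, hj⟩ := Finset.exists_le (p.coeffs.image i₀)
    have hrange : (p.coeffs : Set A) ⊆ Set.range (algebraMap (G j) A) := by
      intro a ha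
      have hle : i₀ a ≤ j := hj _ (Finset.mem_image_of_mem _ ha)
      exact ⟨g (i₀ a) j hle (x₀ a), (RingHom.congr_fun (hcompat _ _ hle) (x₀ a)).trans (hx₀ a)⟩
    obtain ⟨x, hx⟩ := MvPolynomial.mem_range_map_iff_coeffs_subset.mpr hrange
    exact ⟨j, x, hx⟩
  · intro i x hx
    have hcoeff : ∀ m, algebraMap (G i) A (x.coeff m) = 0 := by
      intro m
      have := congrArg (MvPolynomial.coeff m) hx
      rwa [MvPolynomial.algebraMap_def, MvPolynomial.coeff_map, MvPolynomial.coeff_zero] at this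
    have h2 : ∀ m, ∃ j, ∃ h : i ≤ j, g i j h (x.coeff m) = 0 := fun m => hinj i _ (hcoeff m)
    choose j₀ hj₀ hzero using h2
    obtain ⟨j, hj⟩ := Finset.exists_le (insert i (x.support.image j₀))
    have hij : i ≤ j := hj _ (Finset.mem_insert_self _ _)
    refine ⟨j, hij, ?_⟩
    ext m
    rw [MvPolynomial.coeff_map, MvPolynomial.coeff_zero]
    by_cases hm : m ∈ x.support
    · have hle : j₀ m ≤ j := hj _ (Finset.mem_insert_of_mem (Finset.mem_image_of_mem _ hm))
      have : g i j hij (x.coeff m) = g (j₀ m) j hle (g i (j₀ m) (hj₀ m) (x.coeff m)) :=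
        (RingHom.congr_fun (hcomp i (j₀ m) j (hj₀ m) hle) _).symm
      rw [this, hzero, map_zero]
    · rw [MvPolynomial.notMem_support_iff.mp hm, map_zero]

end Poly

end Groth.Agent.H56.ColimFlatAt
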