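import Mathlib
import Groth.Agent.H56.ColimFlatAt.Colim
import Groth.Agent.H1.FlatLocusColim

/-!
# Descent of pointwise flatness along a closed set to a stage of a directed colimit,
in the world of models (helper56)
-/

set_option autoImplicit false
set_option linter.style.haveILetI false

namespace Groth.Agent.H56.ColimFlatAt

universe u

open Groth.Agent.H1.FlatLocus TensorProduct

attribute [local instance] MvPolynomial.algebraMvPolynomial

section Tower

variable {Z : Type u} [CommRing Z] (𝓜 : Model Z)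

theorem algebraMap_P_comp (C D E : Type u) [CommRing C] [CommRing D] [CommRing E] [Algebra C D]
    [Algebra D E] [Algebra C E] [IsScalarTower C D E] :
    (algebraMap (𝓜.P D) (𝓜.P E)).comp (algebraMap (𝓜.P C) (𝓜.P D)) =
      algebraMap (𝓜.P C) (𝓜.P E) := by
  simp only [MvPolynomial.algebraMap_def]
  refine RingHom.ext fun p => ?_
  rw [RingHom.comp_apply, MvPolynomial.map_map, ← IsScalarTower.algebraMap_eq]

/-- pointwise flatness passes up a tower `C → D → E`, at the contractions of a prime over `E` -/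
theorem flat_comap_of_tower (C D E : Type u) [CommRing C] [CommRing D] [CommRing E] [Algebra C D]
    [Algebra D E] [Algebra C E] [IsScalarTower C D E] [Algebra Z C] [Algebra Z D]
    [IsScalarTower Z C D] (q : Ideal (𝓜.P E)) [q.IsPrime]
    (hq : Module.Flat C (LocalizedModule
      (q.comap (algebraMap (𝓜.P C) (𝓜.P E))).primeCompl (𝓜.Mod C))) :
    Module.Flat D (LocalizedModule
      (q.comap (algebraMap (𝓜.P D) (𝓜.P E))).primeCompl (𝓜.Mod D)) := by
  have hcomp := algebraMap_P_comp 𝓜 C D E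
  have heq : (q.comap (algebraMap (𝓜.P D) (𝓜.P E))).comap (algebraMap (𝓜.P C) (𝓜.P D)) =
      q.comap (algebraMap (𝓜.P C) (𝓜.P E)) := by
    rw [Ideal.comap_comap, hcomp]
  have key : ∀ (q₁ q₂ : Ideal (𝓜.P C)) [q₁.IsPrime] [q₂.IsPrime], q₁ = q₂ →
      Module.Flat C (LocalizedModule q₁.primeCompl (𝓜.Mod C)) →
      Module.Flat C (LocalizedModule q₂.primeCompl (𝓜.Mod C)) := by
    intro q₁ q₂ _ _ h12
    subst h12
    exact id
  have : Module.Flat C (LocalizedModule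
      ((q.comap (algebraMap (𝓜.P D) (𝓜.P E))).comap
        (algebraMap (𝓜.P C) (𝓜.P D))).primeCompl (𝓜.Mod C)) := key _ _ heq.symm hq
  exact 𝓜.flat_localizedModule_of_comap C D (q.comap (algebraMap (𝓜.P D) (𝓜.P E)))

end Tower

section Core

variable {Z : Type u} [CommRing Z] [IsNoetherianRing Z] (𝓜 : Model Z)
  {ι : Type u} [Preorder ι] (G : ι → Type u) [∀ i, CommRing (G i)] [∀ i, Algebra Z (G i)]
  (g : ∀ i j, i ≤ j → G i →+* G j)
  (hg : ∀ i j (h : i ≤ j) (z : Z), g i j h (algebraMap Z (G i) z) = algebraMap Z (G j) z)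
  (A : Type u) [CommRing A] [Algebra Z A] [∀ i, Algebra (G i) A] [∀ i, IsScalarTower Z (G i) A]
  (hcolim : FlatCA.IsDirectedColimitRing G g A)

include hg hcolim in
/-- pointwise flatness over the colimit descends to a stage -/
theorem exists_stage_flat_at (q' : Ideal (𝓜.P A)) [q'.IsPrime]
    (hq : Module.Flat A (LocalizedModule q'.primeCompl (𝓜.Mod A))) :
    ∃ i, Module.Flat (G i) (LocalizedModule
      (q'.comap (algebraMap (𝓜.P (G i)) (𝓜.P A))).primeCompl (𝓜.Mod (G i))) := by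
  classical
  haveI := hq
  obtain ⟨Sg, hSg⟩ := 𝓜.exists_finset_forall_flat A q'
  set C : Subalgebra Z A := Algebra.adjoin Z (Sg : Set A) with hC
  have hCfg : C.FG := ⟨Sg, rfl⟩
  have hft : Algebra.FiniteType Z C := (Subalgebra.fg_iff_finiteType C).mp hCfg
  have hfp : Algebra.FinitePresentation Z C := Algebra.FinitePresentation.of_finiteType.mp hft
  have hflatC := hSg C Algebra.subset_adjoin hCfg
  obtain ⟨j, ψ, hψ⟩ := exists_algHom_of_isDirectedColimitRing (Z := Z) G g hg A hcolim C C.val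
  refine ⟨j, ?_⟩
  letI algCG : Algebra C (G j) := ψ.toRingHom.toAlgebra
  haveI : IsScalarTower Z C (G j) := IsScalarTower.of_algebraMap_eq fun z => (ψ.commutes z).symm
  haveI : IsScalarTower C (G j) A := IsScalarTower.of_algebraMap_eq fun c => (hψ c).symm
  exact flat_comap_of_tower 𝓜 C (G j) A q' hflatC

include hg hcolim in
/-- pointwise flatness at a stage passes to later stages -/
theorem flat_stage_mono {i j : ι} (h : i ≤ j) (q' : Ideal (𝓜.P A)) [q'.IsPrime]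
    (hq : Module.Flat (G i) (LocalizedModule
      (q'.comap (algebraMap (𝓜.P (G i)) (𝓜.P A))).primeCompl (𝓜.Mod (G i)))) :
    Module.Flat (G j) (LocalizedModule
      (q'.comap (algebraMap (𝓜.P (G j)) (𝓜.P A))).primeCompl (𝓜.Mod (G j))) := by
  obtain ⟨hdir, hne, hid, hcomp, hcompat, hsurj, hinj⟩ := hcolim
  letI algij : Algebra (G i) (G j) := (g i j h).toAlgebra
  haveI : IsScalarTower Z (G i) (G j) := IsScalarTower.of_algebraMap_eq fun z => (hg i j h z).symm
  haveI : IsScalarTower (G i) (G j) A := IsScalarTower.of_algebraMap_eq fun x =>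
    (RingHom.congr_fun (hcompat i j h) x).symm
  exact flat_comap_of_tower 𝓜 (G i) (G j) A q' hq

include hg hcolim in
/-- **Core**: pointwise flatness over the colimit along a closed set cut out by a compatible
system of ideals, away from a compatible system of multiplicative sets, descends to a stage. -/
theorem exists_stage_forall_flat_at (𝔟 : ∀ i, Ideal (𝓜.P (G i)))
    (h𝔟 : ∀ i j (h : i ≤ j), (𝔟 i).map (MvPolynomial.map (g i j h)) ≤ 𝔟 j)
    (T : ∀ i, Submonoid (𝓜.P (G i)))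
    (hT : ∀ i j (h : i ≤ j), ∀ t ∈ T i, MvPolynomial.map (g i j h) t ∈ T j)
    (H : ∀ (q' : Ideal (𝓜.P A)) [q'.IsPrime],
      (⨆ i, (𝔟 i).map (algebraMap (𝓜.P (G i)) (𝓜.P A))) ≤ q' →
      (∀ i, ∀ t ∈ T i, algebraMap (𝓜.P (G i)) (𝓜.P A) t ∉ q') →
        Module.Flat A (LocalizedModule q'.primeCompl (𝓜.Mod A))) :
    ∃ i, ∀ (q : Ideal (𝓜.P (G i))) [q.IsPrime], 𝔟 i ≤ q → (∀ t ∈ T i, t ∉ q) →
      Module.Flat (G i) (LocalizedModule q.primeCompl (𝓜.Mod (G i))) := by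
  classical
  have hcolim' := hcolim
  have hpoly := isDirectedColimitRing_mvPolynomial G g A hcolim' 𝓜.r
  obtain ⟨hdir, hne, hid, hcomp, hcompat, hsurj, hinj⟩ := hcolim
  obtain ⟨-, -, -, hPcomp, hPcompat, -, -⟩ := hpoly
  have hpoly := isDirectedColimitRing_mvPolynomial G g A hcolim' 𝓜.r
  haveI := hdir
  haveI := hne
  have hPc : ∀ {k m : ι} (h : k ≤ m) (y : 𝓜.P (G k)),
      algebraMap (𝓜.P (G m)) (𝓜.P A) (MvPolynomial.map (g k m h) y) =
        algebraMap (𝓜.P (G k)) (𝓜.P A) y := fun h y => RingHom.congr_fun (hPcompat _ _ h) y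
  set 𝔟' : Ideal (𝓜.P A) := ⨆ i, (𝔟 i).map (algebraMap (𝓜.P (G i)) (𝓜.P A)) with h𝔟'
  -- the multiplicative set over the colimit
  let TA : Submonoid (𝓜.P A) := ⨆ i, (T i).map (algebraMap (𝓜.P (G i)) (𝓜.P A))
  have hTAdir : Directed (· ≤ ·) fun i => (T i).map (algebraMap (𝓜.P (G i)) (𝓜.P A)) := by
    intro i j
    obtain ⟨k, hik, hjk⟩ := hdir.directed i j
    refine ⟨k, ?_, ?_⟩
    · rintro _ ⟨t, ht, rfl⟩
      exact ⟨_, hT i k hik t ht, hPc hik t⟩
    · rintro _ ⟨t, ht, rfl⟩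
      exact ⟨_, hT j k hjk t ht, hPc hjk t⟩
  have hTAmem : ∀ i, ∀ t ∈ T i, algebraMap (𝓜.P (G i)) (𝓜.P A) t ∈ TA := fun i t ht =>
    Submonoid.mem_iSup_of_mem i (Submonoid.mem_map_of_mem _ ht)
  let L := Localization TA
  -- the open sets
  let U : ι → Set (PrimeSpectrum (𝓜.P A)) := fun i =>
    PrimeSpectrum.comap (algebraMap (𝓜.P (G i)) (𝓜.P A)) ⁻¹'
      (flatLocus (G i) (S := 𝓜.P (G i)) (𝓜.Mod (G i)))
  have hUopen : ∀ i, IsOpen (U i) := fun i =>
    (𝓜.isOpen_flatLocus (G i)).preimage (PrimeSpectrum.continuous_comap _)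
  have hUdir : Directed (· ⊆ ·) U := by
    intro i j
    obtain ⟨k, hik, hjk⟩ := hdir.directed i j
    refine ⟨k, ?_, ?_⟩
    · intro q' hq'
      exact flat_stage_mono 𝓜 G g hg A hcolim' hik q'.asIdeal hq'
    · intro q' hq'
      exact flat_stage_mono 𝓜 G g hg A hcolim' hjk q'.asIdeal hq'
  -- the compact set
  let K : Set (PrimeSpectrum (𝓜.P A)) := PrimeSpectrum.comap (algebraMap (𝓜.P A) L) ''
    PrimeSpectrum.zeroLocus ((𝔟'.map (algebraMap (𝓜.P A) L) : Ideal L) : Set L)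
  have hKcompact : IsCompact K :=
    (PrimeSpectrum.isClosed_zeroLocus _).isCompact.image (PrimeSpectrum.continuous_comap _)
  have hKprop : ∀ q'' : PrimeSpectrum L, 𝔟'.map (algebraMap (𝓜.P A) L) ≤ q''.asIdeal →
      𝔟' ≤ q''.asIdeal.comap (algebraMap (𝓜.P A) L) ∧
      ∀ i, ∀ t ∈ T i, algebraMap (𝓜.P (G i)) (𝓜.P A) t ∉
        q''.asIdeal.comap (algebraMap (𝓜.P A) L) := by
    intro q'' hq''
    refine ⟨Ideal.map_le_iff_le_comap.mp hq'', fun i t ht hmem => ?_⟩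
    have hunit : IsUnit (algebraMap (𝓜.P A) L (algebraMap (𝓜.P (G i)) (𝓜.P A) t)) :=
      IsLocalization.map_units L ⟨_, hTAmem i t ht⟩
    exact q''.isPrime.ne_top (Ideal.eq_top_of_isUnit_mem _ hmem hunit)
  have hcover : K ⊆ ⋃ i, U i := by
    rintro _ ⟨q'', hq'', rfl⟩
    obtain ⟨h1, h2⟩ := hKprop q'' hq''
    obtain ⟨i, hi⟩ := exists_stage_flat_at 𝓜 G g hg A hcolim'
      (q''.asIdeal.comap (algebraMap (𝓜.P A) L))
      (H (q''.asIdeal.comap (algebraMap (𝓜.P A) L)) h1 h2)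
    exact Set.mem_iUnion.mpr ⟨i, hi⟩
  obtain ⟨i, hi⟩ := hKcompact.elim_directed_cover U hUopen hcover hUdir
  -- the complement of the flat locus at stage `i`
  obtain ⟨𝔞, h𝔞⟩ := (PrimeSpectrum.isClosed_iff_zeroLocus_ideal _).mp
    (𝓜.isOpen_flatLocus (G i)).isClosed_compl
  have htop : (𝔟' ⊔ 𝔞.map (algebraMap (𝓜.P (G i)) (𝓜.P A))).map (algebraMap (𝓜.P A) L) = ⊤ := by
    by_contra hne'
    obtain ⟨m, hm, hle⟩ := Ideal.exists_le_maximal _ hne'
    haveI := hm.isPrime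
    rw [Ideal.map_sup] at hle
    have hK : PrimeSpectrum.comap (algebraMap (𝓜.P A) L) ⟨m, hm.isPrime⟩ ∈ K :=
      ⟨⟨m, hm.isPrime⟩, le_sup_left.trans hle, rfl⟩
    have hU := hi hK
    have h2 : 𝔞 ≤ (m.comap (algebraMap (𝓜.P A) L)).comap (algebraMap (𝓜.P (G i)) (𝓜.P A)) := by
      rw [← Ideal.map_le_iff_le_comap, ← Ideal.map_le_iff_le_comap]
      exact le_sup_right.trans hle
    have h3 : PrimeSpectrum.comap (algebraMap (𝓜.P (G i)) (𝓜.P A))
        (PrimeSpectrum.comap (algebraMap (𝓜.P A) L) ⟨m, hm.isPrime⟩) ∈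
        PrimeSpectrum.zeroLocus (𝔞 : Set (𝓜.P (G i))) := h2
    rw [← h𝔞] at h3
    exact h3 hU
  have hdisj : ¬ Disjoint (TA : Set (𝓜.P A))
      ((𝔟' ⊔ 𝔞.map (algebraMap (𝓜.P (G i)) (𝓜.P A)) : Ideal (𝓜.P A)) : Set (𝓜.P A)) := by
    rw [← IsLocalization.map_algebraMap_ne_top_iff_disjoint TA L]
    exact not_not.mpr htop
  rw [Set.not_disjoint_iff] at hdisj
  obtain ⟨t, htTA, htmem⟩ := hdisj
  obtain ⟨k, tk, htk, rfl⟩ : ∃ k, ∃ tk ∈ T k, algebraMap (𝓜.P (G k)) (𝓜.P A) tk = t := by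
    have := (Submonoid.mem_iSup_of_directed hTAdir).mp htTA
    obtain ⟨k, tk, htk, h⟩ := this
    exact ⟨k, tk, htk, h⟩
  obtain ⟨l, hil, hkl⟩ := hdir.directed i k
  -- the compatible system of ideals
  let 𝔠 : ∀ k, Ideal (𝓜.P (G k)) := fun k =>
    𝔟 k ⊔ ⨆ (h : i ≤ k), 𝔞.map (MvPolynomial.map (g i k h))
  have h𝔠 : ∀ k l (h : k ≤ l), (𝔠 k).map (MvPolynomial.map (g k l h)) ≤ 𝔠 l := by
    intro k l h
    rw [Ideal.map_sup]
    refine sup_le ((h𝔟 k l h).trans le_sup_left) ?_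
    rw [Ideal.map_iSup]
    refine iSup_le fun hik => ?_
    rw [Ideal.map_map]
    have : (MvPolynomial.map (σ := Fin 𝓜.r) (g k l h)).comp (MvPolynomial.map (g i k hik)) =
        MvPolynomial.map (g i l (hik.trans h)) := hPcomp i k l hik h
    rw [this]
    exact le_trans (le_iSup (fun h' : i ≤ l => 𝔞.map (MvPolynomial.map (g i l h'))) (hik.trans h))
      le_sup_right
  have hmem𝔠 : algebraMap (𝓜.P (G l)) (𝓜.P A) (MvPolynomial.map (g k l hkl) tk) ∈
      ⨆ k, (𝔠 k).map (algebraMap (𝓜.P (G k)) (𝓜.P A)) := by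
    rw [hPc]
    refine (sup_le ?_ ?_ : 𝔟' ⊔ 𝔞.map (algebraMap (𝓜.P (G i)) (𝓜.P A)) ≤ _) htmem
    · refine iSup_le fun k => le_trans (Ideal.map_mono ?_)
        (le_iSup (fun k => (𝔠 k).map (algebraMap (𝓜.P (G k)) (𝓜.P A))) k)
      exact le_sup_left
    · refine le_trans (Ideal.map_mono ?_)
        (le_iSup (fun k => (𝔠 k).map (algebraMap (𝓜.P (G k)) (𝓜.P A))) i)
      refine le_trans ?_ le_sup_right
      refine le_trans ?_ (le_iSup _ (le_refl i))
      have : MvPolynomial.map (g i i le_rfl) = RingHom.id (𝓜.P (G i)) := by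
        rw [hid i]
        exact RingHom.ext fun p => MvPolynomial.map_id p
      rw [this, Ideal.map_id]
  obtain ⟨m, hlm, hm⟩ := exists_stage_mem_of_mem_iSup_map
    (fun i => 𝓜.P (G i)) (fun i j h => MvPolynomial.map (g i j h)) (𝓜.P A) hpoly 𝔠 h𝔠 l _ hmem𝔠
  have him : i ≤ m := hil.trans hlm
  set y : 𝓜.P (G m) := MvPolynomial.map (g l m hlm) (MvPolynomial.map (g k l hkl) tk) with hy
  have hyT : y ∈ T m := hT l m hlm _ (hT k l hkl tk htk)
  have hy𝔠 : y ∈ 𝔟 m ⊔ 𝔞.map (MvPolynomial.map (g i m him)) := by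
    have : 𝔠 m ≤ 𝔟 m ⊔ 𝔞.map (MvPolynomial.map (g i m him)) := by
      refine sup_le le_sup_left ?_
      exact iSup_le fun h' => le_sup_right
    exact this hm
  refine ⟨m, fun q _ hq hqT => ?_⟩
  letI algim : Algebra (G i) (G m) := (g i m him).toAlgebra
  haveI : IsScalarTower Z (G i) (G m) :=
    IsScalarTower.of_algebraMap_eq fun z => (hg i m him z).symm
  have hnot : ¬ 𝔞.map (algebraMap (𝓜.P (G i)) (𝓜.P (G m))) ≤ q := by
    intro hle
    exact hqT y hyT ((sup_le hq hle : 𝔟 m ⊔ 𝔞.map (MvPolynomial.map (g i m him)) ≤ q) hy𝔠)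
  have hmem : (⟨q.comap (algebraMap (𝓜.P (G i)) (𝓜.P (G m))), inferInstance⟩ :
      PrimeSpectrum (𝓜.P (G i))) ∈ flatLocus (G i) (S := 𝓜.P (G i)) (𝓜.Mod (G i)) := by
    by_contra hcon
    have h4 : (⟨q.comap (algebraMap (𝓜.P (G i)) (𝓜.P (G m))), inferInstance⟩ :
      PrimeSpectrum (𝓜.P (G i))) ∈ PrimeSpectrum.zeroLocus (𝔞 : Set (𝓜.P (G i))) := by
      rw [← h𝔞]
      exact hcon
    apply hnot
    rw [Ideal.map_le_iff_le_comap]
    exact h4
  haveI : Module.Flat (G i) (LocalizedModule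
      (q.comap (algebraMap (𝓜.P (G i)) (𝓜.P (G m)))).primeCompl (𝓜.Mod (G i))) := hmem
  exact 𝓜.flat_localizedModule_of_comap (G i) (G m) q

end Core

end Groth.Agent.H56.ColimFlatAt
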