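import Mathlib

/-!
# Descent of a finitely presented module from a localization (helper56)
-/

set_option autoImplicit false
set_option linter.style.haveILetI false

namespace Groth.Agent.H56.ColimFlatAt

universe u

/-- a finitely presented module over a localization `S = W⁻¹ S₀` is the localization of a finitely
presented `S₀`-module -/
theorem exists_finitePresentation_isLocalizedModule {S₀ S : Type u} [CommRing S₀] [CommRing S]
    [Algebra S₀ S] (W : Submonoid S₀) [IsLocalization W S] (M : Type u) [AddCommGroup M]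
    [Module S M] [Module S₀ M] [IsScalarTower S₀ S M] [Module.FinitePresentation S M] :
    ∃ (M₀ : Type u) (_ : AddCommGroup M₀) (_ : Module S₀ M₀) (_ : Module.FinitePresentation S₀ M₀)
      (ℓ : M₀ →ₗ[S₀] M), IsLocalizedModule W ℓ := by
  classical
  obtain ⟨n, K, eM, hK⟩ := Module.FinitePresentation.exists_fin S M
  obtain ⟨G, hG⟩ := hK
  let f₀ : (Fin n → S₀) →ₗ[S₀] (Fin n → S) :=
    LinearMap.pi fun i => (Algebra.linearMap S₀ S) ∘ₗ LinearMap.proj i
  haveI hf₀ : IsLocalizedModule W f₀ := inferInstance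
  have hsurj : ∀ g : (Fin n → S), ∃ (g₀ : Fin n → S₀) (w : W), w • g = f₀ g₀ := fun g => by
    obtain ⟨⟨g₀, w⟩, h⟩ := IsLocalizedModule.surj W f₀ g
    exact ⟨g₀, w, h⟩
  choose g₀ w hw using hsurj
  let K₀ : Submodule S₀ (Fin n → S₀) := Submodule.span S₀ (g₀ '' (G : Set (Fin n → S)))
  have hK₀ : K₀.localized' S W f₀ = K := by
    rw [Submodule.localized'_span, ← hG]
    apply le_antisymm
    · rw [Submodule.span_le]
      rintro _ ⟨_, ⟨g, hg, rfl⟩, rfl⟩
      rw [← hw g]
      have : (w g) • g = (algebraMap S₀ S (w g : S₀)) • g := by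
        rw [Submonoid.smul_def, algebraMap_smul]
      rw [this]
      exact Submodule.smul_mem _ _ (Submodule.subset_span hg)
    · rw [Submodule.span_le]
      intro g hg
      have hu : IsUnit (algebraMap S₀ S (w g : S₀)) := IsLocalization.map_units S (w g)
      obtain ⟨u, hu'⟩ := hu
      have h1 : f₀ (g₀ g) ∈ Submodule.span S (f₀ '' (g₀ '' (G : Set (Fin n → S)))) :=
        Submodule.subset_span ⟨_, ⟨g, hg, rfl⟩, rfl⟩
      have h2 : g = (↑u⁻¹ : S) • f₀ (g₀ g) := by
        rw [← hw g, Submonoid.smul_def, ← algebraMap_smul S (w g : S₀) g, ← hu', ← mul_smul,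
          Units.inv_mul, one_smul]
      rw [SetLike.mem_coe, h2]
      exact Submodule.smul_mem _ _ h1
  haveI hfp : Module.FinitePresentation S₀ ((Fin n → S₀) ⧸ K₀) := by
    refine Module.finitePresentation_of_surjective K₀.mkQ (Submodule.mkQ_surjective _) ?_
    rw [Submodule.ker_mkQ]
    exact ⟨G.image g₀, by rw [Finset.coe_image]⟩
  let ℓ₁ : ((Fin n → S₀) ⧸ K₀) →ₗ[S₀] ((Fin n → S) ⧸ K₀.localized' S W f₀) :=
    K₀.toLocalizedQuotient' S W f₀
  haveI hℓ₁ : IsLocalizedModule W ℓ₁ := inferInstance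
  let e₂ : ((Fin n → S) ⧸ K₀.localized' S W f₀) ≃ₗ[S₀] M :=
    ((Submodule.quotEquivOfEq _ _ hK₀).trans eM.symm).restrictScalars S₀
  exact ⟨(Fin n → S₀) ⧸ K₀, inferInstance, inferInstance, hfp, e₂.toLinearMap ∘ₗ ℓ₁,
    inferInstance⟩

end Groth.Agent.H56.ColimFlatAt
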