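import Mathlib
import Groth.Prelude.Def_FlatCA

/-!
# A local algebra over a Noetherian ring as a directed colimit of Noetherian local rings (helper56)

`R'` a local ring which is an `R`-algebra.  The localizations of the finitely generated
`R`-subalgebras `C ⊆ R'` at the contractions of the maximal ideal form a directed system of local
rings with local transition maps and colimit `R'`.
-/

set_option autoImplicit false
set_option linter.style.haveILetI false

namespace Groth.Agent.H56.ColimFlatAt.LocalSystem

universe u

variable (R R' : Type u) [CommRing R] [CommRing R'] [Algebra R R'] [IsLocalRing R']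

/-- the index set: finitely generated subalgebras -/
abbrev Idx : Type u := {C : Subalgebra R R' // C.FG}

variable {R R'}

/-- the contraction of the maximal ideal -/
def pr (i : Idx R R') : Ideal i.1 := (IsLocalRing.maximalIdeal R').comap (algebraMap i.1 R')

instance (i : Idx R R') : (pr i).IsPrime := Ideal.comap_isPrime _ _

theorem mem_pr {i : Idx R R'} (x : i.1) : x ∈ pr i ↔ (x : R') ∈ IsLocalRing.maximalIdeal R' :=
  Iff.rfl

/-- the local rings -/
abbrev G (i : Idx R R') : Type u := Localization.AtPrime (pr i)

theorem pr_eq_comap {i j : Idx R R'} (h : i ≤ j) :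
    pr i = (pr j).comap (Subalgebra.inclusion (show i.1 ≤ j.1 from h)).toRingHom := by
  ext x
  rfl

/-- the transition maps -/
noncomputable def trans (i j : Idx R R') (h : i ≤ j) : G i →+* G j :=
  Localization.localRingHom (pr i) (pr j) (Subalgebra.inclusion (show i.1 ≤ j.1 from h)).toRingHom
    (pr_eq_comap h)

theorem trans_algebraMap {i j : Idx R R'} (h : i ≤ j) (x : i.1) :
    trans i j h (algebraMap i.1 (G i) x) =
      algebraMap j.1 (G j) (Subalgebra.inclusion (show i.1 ≤ j.1 from h) x) :=
  Localization.localRingHom_to_map _ _ _ _ x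

instance (i j : Idx R R') (h : i ≤ j) : IsLocalHom (trans i j h) :=
  Localization.isLocalHom_localRingHom _ _ _ _

theorem isUnit_of_primeCompl (i : Idx R R') (y : (pr i).primeCompl) :
    IsUnit (algebraMap i.1 R' (y : i.1)) := by
  have : (algebraMap i.1 R' (y : i.1)) ∉ IsLocalRing.maximalIdeal R' := y.2
  rwa [IsLocalRing.mem_maximalIdeal, mem_nonunits_iff, not_not] at this

/-- the maps to the colimit -/
noncomputable def toLim (i : Idx R R') : G i →+* R' :=
  IsLocalization.lift (M := (pr i).primeCompl) (g := algebraMap i.1 R') (isUnit_of_primeCompl i)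

theorem toLim_algebraMap (i : Idx R R') (x : i.1) :
    toLim i (algebraMap i.1 (G i) x) = (x : R') :=
  IsLocalization.lift_eq _ x

theorem toLim_trans {i j : Idx R R'} (h : i ≤ j) : (toLim j).comp (trans i j h) = toLim i := by
  refine IsLocalization.ringHom_ext (pr i).primeCompl ?_
  ext x
  simp only [RingHom.comp_apply]
  rw [trans_algebraMap, toLim_algebraMap, toLim_algebraMap]
  rfl

theorem toLim_algebraMap_R (i : Idx R R') (r : R) :
    toLim i (algebraMap R (G i) r) = algebraMap R R' r := by
  rw [IsScalarTower.algebraMap_apply R i.1 (G i), toLim_algebraMap]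
  rfl

theorem trans_algebraMap_R {i j : Idx R R'} (h : i ≤ j) :
    (trans i j h).comp (algebraMap R (G i)) = algebraMap R (G j) := by
  ext r
  rw [RingHom.comp_apply, IsScalarTower.algebraMap_apply R i.1 (G i), trans_algebraMap,
    IsScalarTower.algebraMap_apply R j.1 (G j)]
  rfl

instance (i : Idx R R') : IsLocalHom (toLim i) := by
  constructor
  intro x hx
  obtain ⟨a, s, rfl⟩ := IsLocalization.exists_mk'_eq (pr i).primeCompl x
  rw [IsLocalization.AtPrime.isUnit_mk'_iff (G i) (pr i)]
  intro ha
  have h1 : toLim i (IsLocalization.mk' (G i) a s) * (s : i.1) = (a : R') := by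
    rw [← toLim_algebraMap i (s : i.1), ← map_mul, IsLocalization.mk'_spec, toLim_algebraMap]
  have h2 : (a : R') ∈ IsLocalRing.maximalIdeal R' := ha
  rw [← h1] at h2
  have h3 : IsUnit (toLim i (IsLocalization.mk' (G i) a s) * ((s : i.1) : R')) :=
    hx.mul (isUnit_of_primeCompl i s)
  exact (IsLocalRing.mem_maximalIdeal _).mp h2 h3

/-- the subalgebra generated by an element -/
def adjoinIdx (a : R') : Idx R R' :=
  ⟨Algebra.adjoin R {a}, Subalgebra.fg_def.mpr ⟨{a}, Set.finite_singleton a, rfl⟩⟩

/-- the element as an element of the subalgebra it generates -/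
def adjoinElt (a : R') : (adjoinIdx (R := R) a).1 :=
  ⟨a, Algebra.subset_adjoin (Set.mem_singleton a)⟩

theorem algebraMap_mem_maximalIdeal (i : Idx R R') (x : i.1)
    (hx : (x : R') ∈ IsLocalRing.maximalIdeal R') :
    algebraMap i.1 (G i) x ∈ IsLocalRing.maximalIdeal (G i) := by
  rw [IsLocalization.AtPrime.to_map_mem_maximal_iff (G i) (pr i)]
  exact hx

variable (R R') in
/-- the system is a directed colimit system with colimit `R'` -/
theorem isDirectedColimitRing :
    letI : ∀ i : Idx R R', Algebra (G i) R' := fun i => (toLim i).toAlgebra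
    FlatCA.IsDirectedColimitRing (fun i : Idx R R' => G i) trans R' := by
  letI : ∀ i : Idx R R', Algebra (G i) R' := fun i => (toLim i).toAlgebra
  refine ⟨⟨fun a b => ⟨⟨a.1 ⊔ b.1, a.2.sup b.2⟩, (le_sup_left : a.1 ≤ a.1 ⊔ b.1),
    (le_sup_right : b.1 ≤ a.1 ⊔ b.1)⟩⟩, ⟨⟨⊥, Subalgebra.fg_bot⟩⟩, ?_, ?_, ?_, ?_, ?_⟩
  · intro i
    refine Localization.localRingHom_unique _ _ _ _ fun x => ?_
    rfl
  · intro i j k hij hjk
    symm
    refine Localization.localRingHom_unique _ _ _ _ fun x => ?_
    rw [RingHom.comp_apply, trans_algebraMap, trans_algebraMap]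
    rfl
  · intro i j h
    exact toLim_trans h
  · intro a
    exact ⟨adjoinIdx a, algebraMap (adjoinIdx a).1 (G (adjoinIdx a)) (adjoinElt a),
      toLim_algebraMap _ _⟩
  · intro i x hx
    refine ⟨i, le_rfl, ?_⟩
    have hx' : toLim i x = 0 := hx
    obtain ⟨a, s, rfl⟩ := IsLocalization.exists_mk'_eq (pr i).primeCompl x
    have h1 : toLim i (IsLocalization.mk' (G i) a s) * ((s : i.1) : R') = (a : R') := by
      rw [← toLim_algebraMap i (s : i.1), ← map_mul, IsLocalization.mk'_spec, toLim_algebraMap]
    rw [hx', zero_mul] at h1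
    have ha : a = 0 := Subtype.ext h1.symm
    rw [ha, IsLocalization.mk'_zero, map_zero]

/-- the maximal ideal of `R'` is the union of the images of the maximal ideals -/
theorem maximalIdeal_le_iSup :
    letI : ∀ i : Idx R R', Algebra (G i) R' := fun i => (toLim i).toAlgebra
    IsLocalRing.maximalIdeal R' ≤
      ⨆ i : Idx R R', (IsLocalRing.maximalIdeal (G i)).map (algebraMap (G i) R') := by
  letI : ∀ i : Idx R R', Algebra (G i) R' := fun i => (toLim i).toAlgebra
  intro a ha
  have h1 := algebraMap_mem_maximalIdeal (adjoinIdx (R := R) a) (adjoinElt a) ha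
  have h2 : algebraMap (G (adjoinIdx (R := R) a)) R'
      (algebraMap (adjoinIdx (R := R) a).1 (G (adjoinIdx (R := R) a)) (adjoinElt a)) = a :=
    toLim_algebraMap _ _
  rw [← h2]
  exact Ideal.mem_iSup_of_mem (adjoinIdx (R := R) a) (Ideal.mem_map_of_mem _ h1)

theorem isNoetherianRing_G [IsNoetherianRing R] (i : Idx R R') : IsNoetherianRing (G i) := by
  haveI : Algebra.FiniteType R i.1 := (Subalgebra.fg_iff_finiteType i.1).mp i.2
  haveI : IsNoetherianRing i.1 := Algebra.FiniteType.isNoetherianRing R i.1
  exact IsLocalization.isNoetherianRing (pr i).primeCompl (G i) inferInstance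

theorem isLocalHom_algebraMap [IsLocalHom (algebraMap R R')] (i : Idx R R') :
    IsLocalHom (algebraMap R (G i)) := by
  constructor
  intro r hr
  have h1 : IsUnit (toLim i (algebraMap R (G i) r)) := hr.map _
  rw [toLim_algebraMap_R] at h1
  exact isUnit_of_map_unit (algebraMap R R') r h1

end Groth.Agent.H56.ColimFlatAt.LocalSystem
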