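import Mathlib
import Groth.Prelude.Def_FlatCA
import Groth.Agent.H1.FlatLocusExists
import Groth.Agent.H56.ColimFlatAt.Bridge
import Groth.Agent.H56.ColimFlatAt.Descent

/-!
# Models for finitely presented modules over essentially finitely presented algebras (helper56)
-/

set_option autoImplicit false
set_option linter.style.haveILetI false

namespace Groth.Agent.H56.ColimFlatAt

universe u

open Groth.Agent.H1.FlatLocus

attribute [local instance] MvPolynomial.algebraMvPolynomial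

theorem exists_model_ess {R S : Type u} [CommRing R] [CommRing S] [Algebra R S]
    (hS : FlatCA.EssFinitePresentation R S) (M : Type u) [AddCommGroup M] [Module S M] [Module R M]
    [IsScalarTower R S M] [Module.FinitePresentation S M] :
    ∃ (Z : Subalgebra ℤ R) (_ : Z.FG) (𝓜 : Model Z) (ψ : 𝓜.P R →ₐ[R] S)
      (T : Submonoid (𝓜.P R)) (ε : 𝓜.Mod R →+ M), IsBridge ψ T ε := by
  obtain ⟨S₀, _, _, _, _, W, hfp, hloc⟩ := hS
  letI : Module S₀ M := Module.compHom M (algebraMap S₀ S)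
  haveI : IsScalarTower S₀ S M := IsScalarTower.of_algebraMap_smul fun _ _ => rfl
  obtain ⟨M₀, _, _, _, ℓ, hℓ⟩ := exists_finitePresentation_isLocalizedModule (S := S) W M
  obtain ⟨Z, hZ, 𝓜, φ, e, hφ, he⟩ := exists_model R S₀ M₀
  let ψ : 𝓜.P R →ₐ[R] S := (IsScalarTower.toAlgHom R S₀ S).comp φ
  have hψ : ∀ p, ψ p = algebraMap S₀ S (φ p) := fun p => rfl
  let T : Submonoid (𝓜.P R) := W.comap (φ : 𝓜.P R →* S₀)
  have hT : ∀ t, t ∈ T ↔ φ t ∈ W := fun t => Iff.rfl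
  let ε : 𝓜.Mod R →+ M := ℓ.toAddMonoidHom.comp e.toAddMonoidHom
  have hε : ∀ x, ε x = ℓ (e x) := fun x => rfl
  refine ⟨Z, hZ, 𝓜, ψ, T, ε, ⟨?_, ?_, ?_, ?_, ?_⟩⟩
  · intro p x
    rw [hε, hε, he, map_smul, hψ, algebraMap_smul]
  · intro t ht
    rw [hψ]
    exact IsLocalization.map_units S ⟨φ t, (hT t).mp ht⟩
  · intro s
    obtain ⟨⟨a, w⟩, haw⟩ := IsLocalization.surj W s
    obtain ⟨p, rfl⟩ := hφ a
    obtain ⟨t, ht⟩ := hφ (w : S₀)
    refine ⟨p, t, (hT t).mpr (ht ▸ w.2), ?_⟩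
    rw [hψ, hψ, ht]
    exact haw
  · intro m
    obtain ⟨⟨m₀, w⟩, hmw⟩ := IsLocalizedModule.surj W ℓ m
    obtain ⟨t, ht⟩ := hφ (w : S₀)
    refine ⟨e.symm m₀, t, (hT t).mpr (ht ▸ w.2), ?_⟩
    rw [hε, AddEquiv.apply_symm_apply, hψ, ht, algebraMap_smul]
    exact hmw
  · intro n hn
    rw [hε] at hn
    have h0 : ℓ (e n) = ℓ 0 := by rw [hn, map_zero]
    obtain ⟨w, hw⟩ := IsLocalizedModule.exists_of_eq (S := W) h0
    obtain ⟨t, ht⟩ := hφ (w : S₀)
    refine ⟨t, (hT t).mpr (ht ▸ w.2), ?_⟩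
    apply e.injective
    rw [he, ht, map_zero]
    rw [smul_zero] at hw
    exact hw

end Groth.Agent.H56.ColimFlatAt
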