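import Mathlib
import Groth.Agent.S6926

/-!
# Applying the Noetherian case of the universal flattening ideal at a stage (helper56)
-/

set_option autoImplicit false
set_option linter.style.haveILetI false

namespace Groth.Agent.H56.ColimFlatAt

universe u

open TensorProduct

attribute [local instance] Algebra.TensorProduct.rightAlgebra

theorem le_ker_of_stage {R S R'' : Type u} [CommRing R] [IsLocalRing R] [IsNoetherianRing R]
    [IsAdicComplete (IsLocalRing.maximalIdeal R) R] [CommRing S] [IsNoetherianRing S] [Algebra R S]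
    [CommRing R''] [IsLocalRing R''] [IsNoetherianRing R''] [Algebra R R'']
    [IsLocalHom (algebraMap R R'')]
    {M : Type u} [AddCommGroup M] [Module S M] [Module R M] [IsScalarTower R S M] [Module.Finite S M]
    (I : Ideal R) (hIm : I ≤ IsLocalRing.maximalIdeal R)
    (hI : (∀ (q : Ideal S) [q.IsPrime], q.comap (algebraMap R S) = IsLocalRing.maximalIdeal R →
        Module.Flat (R ⧸ I) ((R ⧸ I) ⊗[R] LocalizedModule q.primeCompl M)))
    (hmin : ∀ J : Ideal R, (∀ (q : Ideal S) [q.IsPrime],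
        q.comap (algebraMap R S) = IsLocalRing.maximalIdeal R →
        Module.Flat (R ⧸ J) ((R ⧸ J) ⊗[R] LocalizedModule q.primeCompl M)) → I ≤ J)
    (hi : ∀ (Si Mi : Type u) [CommRing Si] [Algebra S Si] [Algebra R'' Si] [Algebra R Si]
      [IsScalarTower R S Si] [IsScalarTower R R'' Si] [Algebra.IsPushout R S R'' Si]
      [AddCommGroup Mi] [Module Si Mi] [Module R'' Mi] [IsScalarTower R'' Si Mi] [Module S Mi]
      [IsScalarTower S Si Mi] (fi : M →ₗ[S] Mi), IsBaseChange Si fi →
      ∀ (q : Ideal Si) [q.IsPrime], (IsLocalRing.maximalIdeal R'').map (algebraMap R'' Si) ⊔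
        (⊥ : Ideal S).map (algebraMap S Si) ≤ q → FlatCA.FlatAt R'' q Mi) :
    I ≤ RingHom.ker (algebraMap R R'') := by
  refine (Groth.Agent.S6926.result (R := R) (S := S) (R' := R'') (S' := S ⊗[R] R'')
    (M := M) (M' := (S ⊗[R] R'') ⊗[S] M) (TensorProduct.mk S (S ⊗[R] R'') M 1)
    (TensorProduct.isBaseChange S M (S ⊗[R] R'')) I hIm hI hmin).mp ?_
  intro q' _ hq'
  refine hi (S ⊗[R] R'') ((S ⊗[R] R'') ⊗[S] M) (TensorProduct.mk S (S ⊗[R] R'') M 1)
    (TensorProduct.isBaseChange S M (S ⊗[R] R'')) q' ?_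
  refine sup_le ?_ ?_
  · rw [Ideal.map_le_iff_le_comap, hq']
  · rw [Ideal.map_bot]
    exact bot_le

end Groth.Agent.H56.ColimFlatAt
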